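import Cfsg.Agent.Class.Dim4.Defs
import Cfsg.Agent.Class.Dim4.R2A
import Cfsg.Agent.Class.Dim4.R2B
import Cfsg.Agent.Class.Dim5.R2U

/-! Characteristic two, transvections determined by their centres and by their axes. -/

set_option autoImplicit false

namespace Cfsg.Agent.Class.Dim4

open Cfsg.Geo Cfsg.Agent.Class.Asch Cfsg.Agent.Class.Max Matrix
open Dim5 hiding trc PG pj TrTop Real PwL PwU IU CU UG Thin2 ug_of_cc rs_two real_or_unitary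
open scoped MatrixGroups commutatorElement

variable {F : Type*} [Field F] {G : Subgroup (G4 F)}

theorem rs_two (h : Thin2 G) : RS G := by
  refine ⟨fun p q hp hq e => Prod.ext e ?_, fun p q hp hq e => Prod.ext ?_ e,
    fun h2 => absurd h.two h2⟩
  · refine h.ctr (-p.1) _ _ (neg_ne_zero.2 hp.ne) hp.ne' hq.ne' ?_ ?_ hp.mem (e ▸ hq.mem)
    · rw [dotProduct_neg, neg_eq_zero]; exact hp.two.trans h.two
    · rw [dotProduct_neg, neg_eq_zero, e]; exact hq.two.trans h.two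
  · refine neg_injective (h.axs _ _ p.2 (neg_ne_zero.2 hp.ne) (neg_ne_zero.2 hq.ne) hp.ne' ?_ ?_
      hp.mem (e ▸ hq.mem))
    · rw [dotProduct_neg, neg_eq_zero]; exact hp.two.trans h.two
    · rw [dotProduct_neg, neg_eq_zero, e]; exact hq.two.trans h.two

theorem ug_of_cc [Finite F] (hG : QS G) (ht : TrTop G) (h : Thin2 G) (hn : ¬ Real G)
    (hc : ∀ p q, Rt G p → Rt G q → cc p q = 0 ∨ cc p q = 1) : UG G := by
  have h2 := h.two
  have : CharP F 2 := (CharP.charP_iff_prime_eq_zero Nat.prime_two).2 h2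
  have thin : Thin G := fun {v φ c} t k => or_iff_not_imp_left.2 fun c0 =>
    smul_left_injective F t.1.φ0 ((h.ctr v _ _ t.1.v0 (smul_ne_zero c0 t.1.φ0) t.1.φ0
      (by simp [t.1.zero]) t.1.zero ((hasT_smul_iff c).1 k) t.2).trans (one_smul _ _).symm)
  have symm : ∀ {v φ w ψ}, TF G v φ → TF G w ψ → φ ⬝ᵥ w = 0 → ψ ⬝ᵥ v = 0 := fun {v φ w ψ} a b k => by
    have c := (fam_TF G).conjT a.1.zero a.2 b
    rw [k, zero_smul, add_zero] at c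
    simpa [a.1.φ0] using h.ctr _ _ _ b.1.v0 c.1.φ0 b.1.φ0 c.1.zero b.1.zero c.2 b.2
  have edge : ∀ {v φ w ψ}, TF G v φ → TF G w ψ → φ ⬝ᵥ w * ψ ⬝ᵥ v = 0 ∨ φ ⬝ᵥ w * ψ ⬝ᵥ v = 1 :=
    fun {v φ w ψ} a b => hc (v, φ) (w, ψ) ⟨a.1.zero.trans h2.symm, a.1.v0, a.1.φ0, a.2.neg_left a.1.zero⟩
      ⟨b.1.zero.trans h2.symm, b.1.v0, b.1.φ0, b.2.neg_left b.1.zero⟩
  have tri : ∀ {u ψ v φ w χ}, TF G u ψ → TF G v φ → TF G w χ →
      ψ ⬝ᵥ w * χ ⬝ᵥ v * φ ⬝ᵥ u = (ψ ⬝ᵥ v * φ ⬝ᵥ w * χ ⬝ᵥ u) ^ 2 := fun {u ψ v φ w χ} a b c => by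
    by_cases k1 : ψ ⬝ᵥ v = 0
    · simp [k1, symm a b k1]
    by_cases k2 : φ ⬝ᵥ w = 0
    · simp [k2, symm b c k2]
    by_cases k3 : χ ⬝ᵥ u = 0
    · simp [k3, symm c a k3]
    have e1 := (edge a b).resolve_left (mul_ne_zero k1 fun k => k1 (symm b a k))
    have e2 := (edge b c).resolve_left (mul_ne_zero k2 fun k => k2 (symm c b k))
    have e3 := (edge c a).resolve_left (mul_ne_zero k3 fun k => k3 (symm a c k))
    have e4 := edge ((fam_TF G).conjT a.1.zero a.2 b) c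
    simp only [dotProduct_add, dotProduct_smul, sub_dotProduct, smul_dotProduct, smul_eq_mul] at e4
    have p : ψ ⬝ᵥ w * χ ⬝ᵥ v * φ ⬝ᵥ u * (ψ ⬝ᵥ v * φ ⬝ᵥ w * χ ⬝ᵥ u) = 1 := by grind
    have q : ψ ⬝ᵥ w * χ ⬝ᵥ v * φ ⬝ᵥ u + ψ ⬝ᵥ v * φ ⬝ᵥ w * χ ⬝ᵥ u = 0 ∨
      ψ ⬝ᵥ w * χ ⬝ᵥ v * φ ⬝ᵥ u + ψ ⬝ᵥ v * φ ⬝ᵥ w * χ ⬝ᵥ u = 1 := e4.imp (by grind) (by grind)
    generalize ψ ⬝ᵥ w * χ ⬝ᵥ v * φ ⬝ᵥ u = x at p q ⊢
    generalize ψ ⬝ᵥ v * φ ⬝ᵥ w * χ ⬝ᵥ u = y at p q ⊢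
    rcases q with q | q
    · have : y = 1 := sub_eq_zero.1 (pow_eq_zero_iff two_ne_zero |>.1 (by grind))
      grind
    · grind
  obtain ⟨u, χ, h0⟩ := exists_TF h.ex
  have gen := (fam_TF G).le_gens hG h0
  have k1 : ∀ g ∈ G, trc g⁻¹ = frobenius F 2 (trc g) := fun g hg =>
    (fam_TF G).rf.trace_inv _ symm (fun a b => by rcases edge a b with k | k <;> simp [k])
      (fun a b c => by rw [tri a b c, frobenius_def]; grind) (gen hg)
  obtain ⟨τ, f, -, hf⟩ := (real_or_unitary hG.spans ht _ k1).resolve_left hn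
  refine ⟨⟨τ, f, hf⟩, fun τ f hf hF => mem_of_EG_le hf ?_⟩
  have e : ∀ x, τ x = x ^ 2 := ht.eq (σ := τ) (τ := frobenius F 2) fun g hg =>
    (trace_inv_of_fixesForm (isSesq_of_unitary hf) hf.nondegenerate hF hg).symm.trans (k1 g hg)
  have form : ∀ {v φ}, TF G v φ → (fmU hf).TvC (G.map (Orth.glEquiv _ F).toMonoidHom) v ∧
      ∀ y, φ ⬝ᵥ y = -(fmU hf).B v y := fun t => by
    refine ⟨(thin.full_bot.2 t).tvC hf hF fun x hx =>
      (Subfield.mem_bot_iff_pow_eq_self F 2).2 (e x ▸ hx), ?_⟩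
    obtain ⟨-, c, c0, hc, k⟩ := t.form hf hF
    change c + τ c = 0 at hc
    rw [e] at hc
    simpa [show c = 1 by grind] using k
  obtain ⟨v₁, φ₁, v₂, φ₂, v₃, φ₃, t1, t2, t3, k⟩ : ∃ u ψ v φ w χ, TF G u ψ ∧ TF G v φ ∧ TF G w χ ∧
      (ψ ⬝ᵥ v * φ ⬝ᵥ w * χ ⬝ᵥ u) ^ 2 ≠ ψ ⬝ᵥ v * φ ⬝ᵥ w * χ ⬝ᵥ u := by
    by_contra! k
    exact hn fun g hg => (fam_TF G).rf.trace_inv (RingHom.id F) symm (fun _ _ => rfl)
      (fun a b c => by rw [tri a b c, k _ _ _ _ _ _ a b c, RingHom.id_apply]; grind) (gen hg)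
  rw [(form t1).2, (form t2).2, (form t3).2] at k
  set Φ := fmU hf
  have s : ∀ x y, Φ.B y x = Φ.B x y ^ 2 := fun x y => (Φ.symm x y).trans ((one_mul _).trans (e _))
  have f4 : ∀ x : F, x ^ 4 = x := fun x => by simpa [e, ← pow_mul] using hf.involutive x
  have a : Φ.B v₁ v₂ ≠ 0 := fun a => by simp [a] at k
  have b : Φ.B v₁ v₃ ≠ 0 := fun a => by simp [s v₁ v₃, a] at k
  refine Fm.U44.EG_le (e := v₁) (f := (Φ.B v₁ v₂)⁻¹ • v₂) (x := (Φ.B v₁ v₃)⁻¹ • v₃)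
    ⟨rfl, fun _ => rfl, fun _ => rfl, e, h2, map_le_Iso hf hF, by simp, rfl⟩ (fun Ω hΩ => ?_)
    (fun W hW => ?_) (form t1).1 ((form t2).1.smul _) ((form t3).1.smul _) (by simp [a])
    (by simp [b]) rfl ?_
  rotate_left
  · exact (fam_TF G).sub_cases hG h0 W fun v φ t x hx a => hW v (form t).1 x hx fun k =>
      a (by rw [(form t).2, k, neg_zero])
  · rw [Φ.B_smul_left, Φ.B_smul_right, show Φ.σ _ = _ from e _]
    rw [s v₁ v₃] at k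
    have a1 := f4 (Φ.B v₁ v₂)
    have a2 := f4 (Φ.B v₁ v₃)
    have a3 := f4 (Φ.B v₂ v₃)
    generalize Φ.B v₁ v₂ = x at *
    generalize Φ.B v₁ v₃ = y at *
    generalize Φ.B v₂ v₃ = z at *
    have : x⁻¹ ^ 2 * (y⁻¹ * z) = x * z * y ^ 2 := by field_simp; grind
    rw [this]
    have a4 := f4 (x * z * y ^ 2)
    grind
  · rintro _ ⟨z, hz, rfl⟩ k
    refine (lines_cases hG (fun g hg => ?_) hz k).imp (fun k => ?_) ?_
    · let S : Subgroup (G4 F) :=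
        { carrier := {g | ∀ p, p ∈ Ω ↔ (g : M4 F) *ᵥ p ∈ Ω}
          one_mem' := by simp
          mul_mem' := fun a b p => by rw [Units.val_mul, ← mulVec_mulVec, ← a, ← b]
          inv_mem' := fun {g} a p => by rw [a (_ *ᵥ p), mulVec_mulVec, Units.mul_inv, one_mulVec] }
      refine fun p => ((fam_TF G).le hG h0 (M := S) (fun v φ t g eg p => ?_) hg p).1
      have k : ∀ p ∈ Ω, (g : M4 F) *ᵥ p ∈ Ω := fun p hp => by
        simpa [eg, add_mulVec, vmv_mulVec, (form t).2 p, sub_eq_add_neg] using hΩ v (form t).1 p hp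
      refine ⟨k p, fun hp => ?_⟩
      convert k _ hp using 1
      simp only [eg, add_mulVec, one_mulVec, vmv_mulVec, dotProduct_add, dotProduct_smul, t.1.zero]
      linear_combination (norm := module) -(φ ⬝ᵥ p * h2) • v
    · obtain ⟨c, hc⟩ := (mem_scalars_iff z).1 k
      exact ⟨c, fun y => by simp [Orth.glEquiv_apply, hc, smul_mulVec]⟩
    · rintro k _ ⟨g, hg, rfl⟩
      exact k g hg

theorem caseR2 [Finite F] (hG : QS G) (ht : TrTop G) (h : Thin2 G) : Real G ∨ UG G :=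
  or_iff_not_imp_left.2 fun hn => ug_of_cc hG ht h hn fun _ _ => R2.cc01 h.two hG (rs_two h) hn

end Cfsg.Agent.Class.Dim4
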