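import Mathlib

/-! Involutions of `S₆` and the pairs they fix. -/

set_option autoImplicit false
set_option synthInstance.maxSize 8000

namespace Cfsg.Agent.Class.Dim4

open Equiv

/-- quantifiers over six points -/
@[reducible] def fa6 (p : Fin 6 → Prop) [DecidablePred p] : Decidable (∀ x, p x) := decidable_of_iff
  ((decide (p 0) && decide (p 1) && decide (p 2) && decide (p 3) && decide (p 4) && decide (p 5)) = true)
  (by simp [Fin.forall_fin_succ, and_assoc])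
/-- quantifiers over six points -/
@[reducible] def ex6 (p : Fin 6 → Prop) [DecidablePred p] : Decidable (∃ x, p x) := decidable_of_iff
  ((decide (p 0) || decide (p 1) || decide (p 2) || decide (p 3) || decide (p 4) || decide (p 5)) = true)
  (by simp [Fin.exists_fin_succ, or_assoc])

attribute [local instance high] fa6 ex6

/-- the function with the digits of `n` as values -/
def pm6 (n : ℕ) (i : Fin 6) : Fin 6 := ⟨n / 8 ^ i.val % 8 % 6, Nat.mod_lt _ (by decide)⟩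
/-- the codes of the permutations -/
def L6 : List ℕ := [0, 1, 2, 3, 4, 5].permutations'.map fun l => l.foldr (fun a b => a + 8 * b) 0
/-- the codes of the involutions -/
def I6 : List ℕ := [181896, 153224, 178312, 117384, 181448, 152776, 173832, 109320, 83784, 80200, 181840, 153168,
  178256, 117328, 180888, 152216, 172824, 82776, 169632, 105120, 169184, 71520, 50856, 47272, 50408,
  42792, 181889, 153217, 178305, 117377, 181441, 152769, 173825, 109313, 83777, 80193, 181770,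
  153098, 178186, 117258, 180762, 152090, 169506, 104994, 50730, 47146, 180363, 151691, 172299,
  82251, 180307, 151635, 168099, 69987, 49323, 41259, 165516, 101004, 165068, 67404, 165460, 100948,
  164508, 66396, 34476, 34028, 18061, 14477, 17613, 9997, 18005, 14421, 17053, 8989, 5797, 5349]

theorem forall6 {P : (Fin 6 → Fin 6) → Prop} (h : ∀ n ∈ L6, P (pm6 n)) (σ : Perm (Fin 6)) : P σ := by
  refine (?_ : pm6 _ = σ) ▸ h _ (List.mem_map_of_mem (List.mem_permutations'.2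
    (Perm.ofFn_comp_perm σ fun i : Fin 6 => (i : ℕ))))
  have h := fun i => (σ i).2
  have := h 0; have := h 1; have := h 2; have := h 3; have := h 4; have := h 5
  refine funext fun i => Fin.ext ?_
  fin_cases i <;> simp [pm6, List.ofFn_succ] <;> omega

theorem forallI {P : (Fin 6 → Fin 6) → Prop} (h : ∀ n ∈ I6, P (pm6 n)) {σ : Perm (Fin 6)}
    (h2 : σ * σ = 1) : P σ :=
  forall6 (P := fun f => (∀ x, f (f x) = x) → P f) (fun n hn r => h n ((by decide +kernel :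
    ∀ n ∈ L6, (∀ x, pm6 n (pm6 n x) = x) → n ∈ I6) n hn r)) σ fun x => congrArg (· x) h2

/-- `τ` fixes the pair `{a, b}` -/
def FxP (τ : Fin 6 → Fin 6) (a b : Fin 6) : Prop := τ a = a ∧ τ b = b ∨ τ a = b ∧ τ b = a
/-- `τ` is the transposition `(a b)` or has the fixed points `a`, `b` -/
def QP (a b : Fin 6) (τ : Fin 6 → Fin 6) : Prop :=
  τ a = b ∧ (∀ x, τ x = swap a b x) ∨ τ a = a ∧ τ b = b ∧ ∀ x, τ x = x → x = a ∨ x = b
/-- `τ` is a double transposition moving `5` -/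
def GP (ρ : Fin 6 → Fin 6) : Prop := ρ 5 ≠ 5 ∧ ∃ a, ρ a ≠ a ∧ ∃ c, a ≠ c ∧ ρ a ≠ c ∧ ρ c ≠ a ∧ ρ c ≠ c ∧
  ∀ x, ρ x = swap a (ρ a) (swap c (ρ c) x)

instance instDecFxP (τ : Fin 6 → Fin 6) (a b : Fin 6) : Decidable (FxP τ a b) :=
  inferInstanceAs (Decidable (_ ∨ _))
instance instDecQP (τ : Fin 6 → Fin 6) (a b : Fin 6) : Decidable (QP a b τ) :=
  inferInstanceAs (Decidable (_ ∨ _))
instance instDecGP (τ : Fin 6 → Fin 6) : Decidable (GP τ) := inferInstanceAs (Decidable (_ ∧ _))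

variable {τ σ : Perm (Fin 6)}

theorem s6_triple (h : τ * τ = 1) (h1 : ∀ x, τ x ≠ x) :
    ∃ π, π * (swap 0 1 * swap 2 3 * swap 4 5) * π⁻¹ = τ := by
  obtain ⟨a, b, e⟩ := forallI (P := fun τ => (∀ x, τ x ≠ x) → ∃ a b, ∀ x, swap 1 a (swap 3 b
    (swap 0 1 (swap 2 3 (swap 4 5 x)))) = τ (swap 1 a (swap 3 b x))) (by decide +kernel) h h1
  exact ⟨swap 1 a * swap 3 b, mul_inv_eq_iff_eq_mul.2 (Perm.ext e)⟩

theorem s6_q {a b : Fin 6} (ab : a ≠ b) : ∃ y : Perm (Fin 6), y 5 = 5 ∧ y a = a ∧ y b = b ∧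
    Perm.sign y = 1 ∧ ∀ τ : Perm (Fin 6), τ * τ = 1 → FxP τ a b → (∃ x, τ x = x) →
      τ * (y * τ * y⁻¹) = y * τ * y⁻¹ * τ → τ = 1 ∨ QP a b τ := by
  obtain ⟨p, q, pq, r, pr, h1, h2, h3, h⟩ := (by decide +kernel : ∀ a b : Fin 6, a ≠ b → ∃ p q : Fin 6, p ≠ q ∧
    ∃ r, p ≠ r ∧ swap p q (swap p r 5) = 5 ∧ swap p q (swap p r a) = a ∧ swap p q (swap p r b) = b ∧
      ∀ n ∈ I6, FxP (pm6 n) a b → (∃ x, pm6 n x = x) → QP a b (pm6 n) ∨ (∀ x, pm6 n x = x) ∨ ¬ ∀ x,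
        pm6 n (swap p q (swap p r (pm6 n (swap p r (swap p q x))))) =
          swap p q (swap p r (pm6 n (swap p r (swap p q (pm6 n x)))))) a b ab
  refine ⟨swap p q * swap p r, h1, h2, h3, by simp [pq, pr], fun τ t2 t3 t4 e => ?_⟩
  rcases forallI (P := fun τ => FxP τ a b → (∃ x, τ x = x) → QP a b τ ∨ (∀ x, τ x = x) ∨ ¬ ∀ x,
    τ (swap p q (swap p r (τ (swap p r (swap p q x))))) =
      swap p q (swap p r (τ (swap p r (swap p q (τ x)))))) h t2 t3 t4 with k | k | k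
  exacts [Or.inr k, Or.inl (Perm.ext k), absurd (fun x => congrArg (· x) e) k]

theorem s6_uniq (h : τ * τ = 1) : ∀ a b, a ≠ b → QP a b τ → ∀ c d, c ≠ d → QP c d τ →
    c = a ∧ d = b ∨ c = b ∧ d = a :=
  forallI (P := fun τ => ∀ a b, a ≠ b → QP a b τ → ∀ c d, c ≠ d → QP c d τ →
    c = a ∧ d = b ∨ c = b ∧ d = a) (by decide +kernel) h

theorem s6_inj {a b : Fin 6} (ab : a ≠ b) : ∃ f : Perm (Fin 6) → Fin 6, ∀ τ σ : Perm (Fin 6), τ * τ = 1 →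
    σ * σ = 1 → τ = 1 ∨ QP a b τ → σ = 1 ∨ QP a b σ → f τ = f σ → τ = σ := by
  obtain ⟨p, h⟩ := (by decide +kernel : ∀ a b : Fin 6, a ≠ b → ∃ p, p ≠ a ∧ p ≠ b ∧ ∀ n ∈ I6,
    QP a b (pm6 n) ∨ (∀ x, pm6 n x = x) → ∀ m ∈ I6, QP a b (pm6 m) ∨ (∀ x, pm6 m x = x) →
      (if pm6 n a = a then pm6 n p else a) = (if pm6 m a = a then pm6 m p else a) → n = m) a b ab
  exact ⟨fun τ => if τ a = a then τ p else a, fun τ σ t2 s2 h1 h2 e => Perm.ext (forallI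
    (P := fun τ => QP a b τ ∨ (∀ x, τ x = x) → (if τ a = a then τ p else a) =
      (if σ a = a then σ p else a) → ∀ x, τ x = σ x) (fun n hn r => forallI
        (P := fun σ => QP a b σ ∨ (∀ x, σ x = x) → (if pm6 n a = a then pm6 n p else a) =
          (if σ a = a then σ p else a) → ∀ x, pm6 n x = σ x)
        (fun m hm r' e _ => by rw [h.2.2 n hn r m hm r' e]) s2 (h2.symm.imp_right Perm.ext_iff.1)) t2
    (h1.symm.imp_right Perm.ext_iff.1) e)⟩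

theorem s6_fix (h : τ * τ = 1) : ∃ a b, a ≠ b ∧ FxP τ a b ∧ ∃ c d, c ≠ d ∧ FxP τ c d ∧
    ¬ (a = c ∧ b = d ∨ a = d ∧ b = c) :=
  forallI (P := fun τ => ∃ a b, a ≠ b ∧ FxP τ a b ∧ ∃ c d, c ≠ d ∧ FxP τ c d ∧
    ¬ (a = c ∧ b = d ∨ a = d ∧ b = c)) (by decide +kernel) h

theorem s6_same (h : τ * τ = 1) (h' : σ * σ = 1) (h1 : ∃ x, τ x = x) (h2 : ∃ x, σ x = x)
    (h3 : ∀ a b, a ≠ b → (FxP τ a b ↔ FxP σ a b)) : τ = σ ∨ GP τ ∨ GP σ :=
  (forallI (P := fun σ => (∃ x, τ x = x) → (∃ x, σ x = x) →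
    (∀ a b, a ≠ b → (FxP τ a b ↔ FxP σ a b)) → (∀ x, τ x = σ x) ∨ GP τ ∨ GP σ)
    (forallI (P := fun τ => ∀ n ∈ I6, (∃ x, τ x = x) → (∃ x, pm6 n x = x) →
      (∀ a b, a ≠ b → (FxP τ a b ↔ FxP (pm6 n) a b)) → (∀ x, τ x = pm6 n x) ∨ GP τ ∨ GP (pm6 n))
      (by decide +kernel) h) h' h1 h2 h3).imp_left Perm.ext

theorem s6_four (h : FxP σ 4 5) (h4 : σ * σ * (σ * σ) = 1) : σ * σ = 1 ∨
    ∃ π : Perm (Fin 6), π 4 = 4 ∧ π 5 = 5 ∧ σ (π 0) = π 2 ∧ σ (π 1) = π 3 :=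
  (forall6 (P := fun σ => FxP σ 4 5 → (∀ x, σ (σ (σ (σ x))) = x) → (∀ x, σ (σ x) = x) ∨ ∃ a b,
    swap 1 a (swap 2 b 4) = 4 ∧ swap 1 a (swap 2 b 5) = 5 ∧ σ (swap 1 a (swap 2 b 0)) = swap 1 a (swap 2 b 2) ∧
      σ (swap 1 a (swap 2 b 1)) = swap 1 a (swap 2 b 3)) (by decide +kernel) σ h
    fun x => congrArg (· x) h4).imp Perm.ext fun ⟨a, b, e⟩ => ⟨swap 1 a * swap 2 b, e⟩

theorem s6_pair {x y : Fin 6} (h : x ≠ y) : ∃ κ : Perm (Fin 6), κ x = 4 ∧ κ y = 5 ∧ Perm.sign κ = 1 := by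
  have e : (swap (swap x 4 y) 5 * swap x 4) x = 4 ∧ (swap (swap x 4 y) 5 * swap x 4) y = 5 := by
    revert x y; decide +kernel
  rcases Int.units_eq_one_or (Perm.sign (swap (swap x 4 y) 5 * swap x 4)) with r | r
  · exact ⟨_, e.1, e.2, r⟩
  · exact ⟨swap 0 1 * _, by rw [Perm.mul_apply, e.1]; rfl, by rw [Perm.mul_apply, e.2]; rfl, by
      rw [map_mul, r]; decide⟩

/-- `A₅` is maximal in `A₆` -/
theorem s6_alt {N : Subgroup (Perm (Fin 6))} (h5 : ∀ σ : Perm (Fin 6), σ 5 = 5 → Perm.sign σ = 1 → σ ∈ N)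
    (ht : τ ∈ N) (h1 : τ 5 ≠ 5) (h2 : Perm.sign τ = 1) (hs : Perm.sign σ = 1) : σ ∈ N := by
  by_cases e : σ 5 = 5
  · exact h5 σ e hs
  obtain ⟨p, q, pq, r, s, rs, k1, k2⟩ := (by decide +kernel : ∀ x y : Fin 6, x ≠ 5 → y ≠ 5 → ∃ p q : Fin 6,
    p ≠ q ∧ ∃ r s : Fin 6, r ≠ s ∧ swap p q (swap r s 5) = 5 ∧ swap p q (swap r s x) = y) _ _ h1 e
  have hk := N.mul_mem (h5 (swap p q * swap r s) k1 (by simp [pq, rs])) ht
  rw [← mul_inv_cancel_left (swap p q * swap r s * τ) σ]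
  exact N.mul_mem hk (h5 _ (by rw [Perm.mul_apply, Perm.inv_eq_iff_eq]; exact k2.symm)
    (by simp [pq, rs, h2, hs]))

end Cfsg.Agent.Class.Dim4
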