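import Cfsg.Agent.Class.Dim4.Defs
import Cfsg.Agent.Class.Dim5.CaseT

/-! Groups containing transvections. -/

set_option autoImplicit false

namespace Cfsg.Agent.Class.Dim4

open Cfsg.Geo Cfsg.Agent.Class.Asch Cfsg.Agent.Class.Max Cfsg.Agent.Class.Dim5 Matrix
open scoped MatrixGroups commutatorElement

variable {F : Type*} [Field F] {G : Subgroup (G4 F)}

/-- The symmetric case. -/
theorem tl_ug [Finite F] {L : Subfield F} (h : TL G L) (hs : Symm G L) (hq : 3 ≤ Nat.card L)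
    (ht : TrTop G) : Real G ∨ UG G := by
  have := Fintype.ofFinite F
  obtain ⟨σ, hσ⟩ : ∃ σ : F →+* F, ∀ x, σ x = x ^ Nat.card L := by
    have := Fintype.ofFinite L
    exact ⟨FiniteField.frobeniusAlgHom L F, fun x => by simp [Nat.card_eq_fintype_card]⟩
  have hL : ∀ x, x ∈ L ↔ σ x = x := fun x => by rw [mem_subfield_iff_pow, hσ]
  obtain ⟨u, χ, h0⟩ := h.ex
  have gen := (fam_Full G L).le_gens h.qs h0
  have k1 : ∀ g ∈ G, trc g⁻¹ = σ (trc g) := fun g hg =>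
    (fam_Full G L).rf.trace_inv σ (fun a b => hs b a) (fun a b => (hL _).1 (h.mem' a b))
      (fun a b c => by rw [h.triple hs hL a b c]; ring) (gen hg)
  by_cases hr : Real G
  · exact Or.inl hr
  obtain ⟨τ, f, -, hf⟩ := (real_or_unitary h.qs.spans ht σ k1).resolve_left hr
  refine Or.inr ⟨⟨τ, f, hf⟩, fun τ f hf hG => mem_of_EG_le hf ?_⟩
  have e : ∀ x, τ x = σ x := ht.eq (σ := τ) fun g hg =>
    (trace_inv_of_fixesForm (isSesq_of_unitary hf) hf.nondegenerate hG hg).symm.trans (k1 g hg)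
  have hL' : ∀ x, τ x = x → x ∈ L := fun x hx => (hL x).2 (e x ▸ hx)
  obtain ⟨v₁, φ₁, v₂, φ₂, v₃, φ₃, h1, h2, h3, k⟩ : ∃ v₁ φ₁ v₂ φ₂ v₃ φ₃, Full G L v₁ φ₁ ∧
      Full G L v₂ φ₂ ∧ Full G L v₃ φ₃ ∧ φ₁ ⬝ᵥ v₂ * φ₂ ⬝ᵥ v₃ * φ₃ ⬝ᵥ v₁ ∉ L := by
    by_contra! hn
    exact hr fun g hg => (fam_Full G L).rf.trace_inv (RingHom.id F) (fun a b => hs b a)
      (fun _ _ => rfl) (fun a b c => by
        rw [RingHom.id_apply, ← (hL _).1 (hn _ _ _ _ _ _ a b c), h.triple hs hL a b c]; ring)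
      (gen hg)
  obtain ⟨-, c₁, a1, b1, e1⟩ := TF.form hf hG ⟨h1.1, h1.hasT⟩
  obtain ⟨-, c₂, -, b2, e2⟩ := TF.form hf hG ⟨h2.1, h2.hasT⟩
  obtain ⟨-, c₃, -, b3, e3⟩ := TF.form hf hG ⟨h3.1, h3.hasT⟩
  refine Fm.EG_le_of_tri rfl (fun _ => rfl) (map_le_Iso hf hG) b1 a1 ?_ (fun W hW => ?_)
    (h1.tvC hf hG hL') (h2.tvC hf hG hL') (h3.tvC hf hG hL') fun hβ => k (hL' _ ?_)
  · by_contra! hn
    classical
    have := Fintype.ofFinite L
    have : (Finset.univ : Finset L) ⊆ {0, 1} := fun x _ => by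
      rw [Finset.mem_insert, Finset.mem_singleton, or_iff_not_imp_left]
      exact fun h => Subtype.ext (hn x ((e x).trans ((hL x).1 x.2)) fun h' => h (Subtype.ext h'))
    have := (Finset.card_le_card this).trans Finset.card_le_two
    rw [Finset.card_univ, ← Nat.card_eq_fintype_card] at this
    omega
  · refine (fam_Full G L).sub_cases h.qs h0 W fun v φ t x hx a => hW v (t.tvC hf hG hL') x hx ?_
    obtain ⟨-, c, -, -, e⟩ := TF.form hf hG ⟨t.1, t.hasT⟩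
    exact fun h => a (by rw [e, h, mul_zero])
  · rw [show ∀ c, (fmU hf).π c = c + τ c from fun _ => rfl] at b1 b2 b3 hβ
    rw [e1, e2, e3]
    simp only [map_mul, map_neg, eq_neg_of_add_eq_zero_right b1, eq_neg_of_add_eq_zero_right b2,
      eq_neg_of_add_eq_zero_right b3] at hβ ⊢
    linear_combination (c₁ * c₂ * c₃) * hβ

theorem caseT [Finite F] (hG : QS G) (ht : TrTop G) (h : ¬ NT G) :
    Real G ∨ specialLinear (Fin 4) F ≤ G ∨ UG G ∨ Thin2 G := by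
  obtain ⟨v, φ, t⟩ := exists_TF h
  rcases tv_trichotomy hG t with ⟨L, h3, hL⟩ | h2 | h3
  · by_cases hs : Symm G L
    · exact (tl_ug hL hs h3 ht).imp_right fun k => Or.inr (Or.inl k)
    · simp only [Symm, not_forall] at hs
      obtain ⟨v, φ, w, ψ, a, b, c, d⟩ := hs
      exact Or.inr (Or.inl (hL.sl_le ht a b d c))
  · replace h2 : Thin G := thin_of_card h2
    refine Or.inr (or_iff_not_imp_left.2 fun hn => Or.inr ⟨h2.two t, h,
      fun v φ ψ a b c d e f g => by_contra fun k => hn ?_,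
      fun v w φ a b c d e f g => by_contra fun k => hn ?_⟩)
    · exact h2.sl_le_of_dbl hG (by simp) ht ⟨φ, ψ, ⟨⟨a, b, d⟩, f⟩, ⟨⟨a, c, e⟩, g⟩, k⟩
    · exact h2.sl_le_of_dbl' hG (by simp) ht ⟨⟨a, c, d⟩, f⟩ ⟨⟨b, c, e⟩, g⟩ k
  · exact (h3.elim hG (by simp)).elim

end Cfsg.Agent.Class.Dim4
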